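import Groth.Agent.FlatCxLib.HomologyBC
import Groth.Agent.FlatCxLib.Local
import Groth.Agent.FlatCxLib.Reduced
import Groth.Agent.S2446
import Groth.Agent.S4485
import Mathlib

/-! Generic exactness over a domain. -/

set_option backward.isDefEq.respectTransparency false
set_option backward.isDefEq.respectTransparency.types false
set_option linter.style.haveILetI false
set_option linter.unusedSectionVars false
set_option maxHeartbeats 400000

universe u

open CategoryTheory Limits TensorProduct

namespace Groth.Agent.FlatCxLib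

variable {A : Type u} [CommRing A] (P : ChainComplex (ModuleCat.{u} A) ℤ)
  {B : Type u} [CommRing B]

lemma nonempty_homology_flatBC_aux (φ : A →+* B) (inst : Algebra A B) (hinst : inst = φ.toAlgebra)
    [Module.Flat A B] (q : ℤ) :
    letI := inst
    Nonempty ((B ⊗[A] P.homology q) ≃ₗ[B] (CohIII.bcCx φ P).homology q) := by
  subst hinst
  let G := ModuleCat.extendScalars φ
  letI := φ.toAlgebra
  haveI : G.PreservesHomology := ((Functor.exact_tfae G).out 1 2).1 fun S hS => by
    rw [ShortComplex.ShortExact.moduleCat_exact_iff_function_exact] at hS ⊢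
    exact Module.Flat.lTensor_exact B hS
  exact ⟨((P.sc q).mapHomologyIso G).toLinearEquiv.symm⟩

variable [Algebra A B]

lemma nonempty_homology_flatBC [Module.Flat A B] (q : ℤ) :
    Nonempty ((B ⊗[A] P.homology q) ≃ₗ[B] (CohIII.bcCx (algebraMap A B) P).homology q) :=
  nonempty_homology_flatBC_aux P (algebraMap A B) ‹Algebra A B› (Algebra.algebra_ext _ _ fun _ => rfl) q

/-- The functors of a base change are exact up to `N` when the base changed homology is flat. -/
lemma exact_upTo_bcCx [Module.Flat A B] (hP : ∀ i, Module.Flat A (P.X i)) (i₀ : ℤ)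
    (hb : ∀ i < i₀, IsZero (P.X i)) (N : ℤ) (h : ∀ q ≤ N, Module.Flat B (B ⊗[A] P.homology q)) :
    ∀ q ≤ N, (CohIII.TFun (CohIII.bcCx (algebraMap A B) P) q).PreservesMonomorphisms ∧
      (CohIII.TFun (CohIII.bcCx (algebraMap A B) P) q).PreservesEpimorphisms := by
  refine (Groth.Agent.S2446.result _ (flat_bcCx_X P hP) i₀
    (fun i hi => (ModuleCat.extendScalars (algebraMap A B)).map_isZero (hb i hi)) N).2 fun q hq => ?_
  have := h q hq
  exact Module.Flat.of_linearEquiv ((nonempty_homology_flatBC P (B := B) q).some.trans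
    (tUnitIso (P := CohIII.bcCx (algebraMap A B) P) q).toLinearEquiv.symm).symm

/-- Over a domain finitely many homology modules become free after inverting one element. -/
lemma exists_away_flat [IsDomain A] (i₀ : ℤ) (hb : ∀ i < i₀, IsZero (P.X i))
    (hfp : ∀ n : ℤ, Module.FinitePresentation A (P.homology n)) (N : ℤ) :
    ∃ f : A, f ≠ 0 ∧ ∀ q ≤ N, Module.Flat (Localization.Away f) (Localization.Away f ⊗[A] P.homology q) := by
  classical
  have h1 : ∀ q : ℤ, ∃ f : A, f ≠ 0 ∧
      (PrimeSpectrum.basicOpen f : Set (PrimeSpectrum A)) ⊆ Module.freeLocus A (P.homology q) := by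
    intro q
    haveI := hfp q
    let η : PrimeSpectrum A := ⟨⊥, Ideal.isPrime_bot⟩
    have hη : η ∈ Module.freeLocus A (P.homology q) := by
      haveI : IsLocalization.AtPrime (FractionRing A) η.asIdeal := by
        delta IsLocalization.AtPrime
        convert (inferInstance : IsLocalization (nonZeroDivisors A) (FractionRing A)) using 1
        ext x
        simp [η, Ideal.primeCompl]
      exact (Module.mem_freeLocus_iff_tensor _ (FractionRing A)).2 (Module.Free.of_divisionRing _ _)
    obtain ⟨_, ⟨f, rfl⟩, hf, hsub⟩ := PrimeSpectrum.isTopologicalBasis_basic_opens.exists_subset_of_mem_open hη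
      Module.isOpen_freeLocus
    exact ⟨f, fun h0 => by rw [h0] at hf; simpa using hf, hsub⟩
  choose f hf hsub using h1
  refine ⟨∏ q ∈ Finset.Icc i₀ N, f q, Finset.prod_ne_zero_iff.2 fun q _ => hf q, fun q hq => ?_⟩
  by_cases hlt : q < i₀
  · haveI : Subsingleton (P.homology q) := ModuleCat.isZero_iff_subsingleton.1
      ((HomologicalComplex.exactAt_iff_isZero_homology _ _).1 (HomologicalComplex.ExactAt.of_isZero (hb q hlt)))
    haveI : Subsingleton (Localization.Away (∏ q ∈ Finset.Icc i₀ N, f q) ⊗[A] P.homology q) := inferInstance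
    infer_instance
  · haveI := hfp q
    have hle : (PrimeSpectrum.basicOpen (∏ q ∈ Finset.Icc i₀ N, f q) : Set (PrimeSpectrum A)) ⊆
        Module.freeLocus A (P.homology q) := by
      refine Set.Subset.trans ?_ (hsub q)
      intro x hx h0
      exact hx (Ideal.mem_of_dvd _ (Finset.dvd_prod_of_mem f (Finset.mem_Icc.2 ⟨not_lt.1 hlt, hq⟩)) h0)
    haveI := (Module.basicOpen_subset_freeLocus_iff).1 hle
    exact @Module.Flat.of_linearEquiv _ _ _ _ _ _ _ _ Module.Flat.of_projective
      (LocalizedModule.equivTensorProduct _ (P.homology q)).symm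

lemma fp_homology_of_T (hfp : ∀ n : ℤ, Module.FinitePresentation A (CohIII.T P n (ModuleCat.of A A))) (n : ℤ) :
    Module.FinitePresentation A (P.homology n) :=
  have := hfp n; Module.FinitePresentation.of_equiv (tUnitIso (P := P) n).toLinearEquiv

end Groth.Agent.FlatCxLib
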