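import Groth.Agent.FlatCxLib.GenericExact
import Groth.Agent.FlatCxLib.LinearFunctor
import Groth.Agent.FlatCxLib.TFunctor
import Groth.Agent.S2440

/-! Ranks near the generic point. -/

set_option backward.isDefEq.respectTransparency false
set_option backward.isDefEq.respectTransparency.types false
set_option linter.style.haveILetI false
set_option linter.unusedSectionVars false
set_option maxHeartbeats 400000

universe u

open CategoryTheory Limits TensorProduct Topology

namespace Groth.Agent.FlatCxLib

variable {A : Type u} [CommRing A] (P : ChainComplex (ModuleCat.{u} A) ℤ)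

lemma isNoetherian_T [IsNoetherianRing A] (hP : ∀ i, Module.Flat A (P.X i)) (i₀ : ℤ)
    (hb : ∀ i < i₀, IsZero (P.X i)) (hfg : ∀ n : ℤ, Module.Finite A (P.homology n)) :
    ∀ (n : ℤ) (M : ModuleCat.{u} A), Module.Finite A M → IsNoetherian A (CohIII.T P n M) := by
  suffices h : ∀ (k : ℕ) (M : ModuleCat.{u} A), Module.Finite A M →
      IsNoetherian A (CohIII.T P (i₀ - 1 + k) M) by
    intro n M hM
    by_cases hn : n < i₀
    · have hz : IsZero (CohIII.T P n M) := (HomologicalComplex.exactAt_iff_isZero_homology _ _).1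
        (HomologicalComplex.ExactAt.of_isZero ((MonoidalCategory.tensorRight M).map_isZero (hb n hn)))
      haveI : Subsingleton (CohIII.T P n M) := ModuleCat.isZero_iff_subsingleton.1 hz
      infer_instance
    · obtain ⟨k, rfl⟩ : ∃ k : ℕ, n = i₀ - 1 + k := ⟨(n - i₀ + 1).toNat, by lia⟩
      exact h k M hM
  intro k
  induction k with
  | zero =>
    intro M _
    have hz : IsZero (CohIII.T P (i₀ - 1 + (0 : ℕ)) M) := (HomologicalComplex.exactAt_iff_isZero_homology _ _).1
        (HomologicalComplex.ExactAt.of_isZero ((MonoidalCategory.tensorRight M).map_isZero (hb _ (by lia))))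
    haveI : Subsingleton (CohIII.T P (i₀ - 1 + (0 : ℕ)) M) := ModuleCat.isZero_iff_subsingleton.1 hz
    infer_instance
  | succ k ih =>
    intro M hM
    obtain ⟨r, π, hπ⟩ := Module.Finite.exists_fin' A M
    let L : ModuleCat.{u} A := ModuleCat.of A (Fin r → A)
    let f : L ⟶ M := ModuleCat.ofHom π
    have : Epi f := (ModuleCat.epi_iff_surjective _).2 hπ
    let S := ShortComplex.mk (kernel.ι f) f (kernel.condition f)
    have hS : S.ShortExact := { exact := ShortComplex.exact_kernel f }
    have hT := shortExact_tensorSC hP hS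
    haveI : Module.Finite A S.X₁ :=
      Module.Finite.equiv (ModuleCat.kernelIsoKer f).toLinearEquiv.symm
    have hq : (i₀ - 1 + (k : ℤ)) + 1 = i₀ - 1 + ((k + 1 : ℕ) : ℤ) := by push_cast; ring
    have h₁ := (ShortComplex.ShortExact.moduleCat_exact_iff_function_exact _).1 (hT.homology_exact₃ _ _ hq)
    haveI : IsNoetherian A (CohIII.T P (i₀ - 1 + (k : ℤ)) S.X₁) := ih _ inferInstance
    haveI := hfg (i₀ - 1 + ((k + 1 : ℕ) : ℤ))
    haveI : Module.Finite A ((CohIII.TFun P (i₀ - 1 + ((k + 1 : ℕ) : ℤ))).obj (ModuleCat.of A A)) :=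
      Module.Finite.equiv (tUnitIso (P := P) (i₀ - 1 + ((k + 1 : ℕ) : ℤ))).toLinearEquiv.symm
    haveI : ∀ J : Type u, PreservesColimitsOfShape (Discrete J) (CohIII.TFun P (i₀ - 1 + ((k + 1 : ℕ) : ℤ))) :=
      fun J => preservesColimitsOfShape_tfun _ _ _
    haveI : Module.Finite A (CohIII.T P (i₀ - 1 + ((k + 1 : ℕ) : ℤ)) L) :=
      Module.Finite.of_surjective _ (bijective_tM_free (CohIII.TFun P (i₀ - 1 + ((k + 1 : ℕ) : ℤ))) L).2
    haveI : IsNoetherian A (CohIII.T P (i₀ - 1 + ((k + 1 : ℕ) : ℤ)) L) := isNoetherian_of_isNoetherianRing_of_finite A _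
    let d : CohIII.T P (i₀ - 1 + ((k + 1 : ℕ) : ℤ)) M →ₗ[A] CohIII.T P (i₀ - 1 + (k : ℤ)) S.X₁ :=
      (hT.δ _ _ hq).hom
    let u : CohIII.T P (i₀ - 1 + ((k + 1 : ℕ) : ℤ)) L →ₗ[A] CohIII.T P (i₀ - 1 + ((k + 1 : ℕ) : ℤ)) M :=
      (HomologicalComplex.homologyMap (tensorSC P S).g _).hom
    have h₂ : Function.Exact u d := h₁
    exact isNoetherian_of_range_eq_ker u d h₂.linearMap_ker_eq.symm

/-- Base change followed by restriction is tensoring. -/
lemma nonempty_extResIso_aux {B : Type u} [CommRing B] (φ : A →+* B) (inst : Algebra A B)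
    (hinst : inst = φ.toAlgebra) :
    letI := inst
    Nonempty (ModuleCat.extendScalars φ ⋙ ModuleCat.restrictScalars φ ≅
      MonoidalCategory.tensorRight (ModuleCat.of A B)) := by
  subst hinst
  letI := φ.toAlgebra
  refine ⟨NatIso.ofComponents (fun X =>
    LinearEquiv.toModuleIso (X₁ := (ModuleCat.extendScalars φ ⋙ ModuleCat.restrictScalars φ).obj X)
      (X₂ := (MonoidalCategory.tensorRight (ModuleCat.of A B)).obj X)
      (LinearEquiv.ofBijective
        ({ toFun := fun z => TensorProduct.comm A B X z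
           map_add' := fun x y => map_add (TensorProduct.comm A B X) x y
           map_smul' := fun a x => by
            show TensorProduct.comm A B X (algebraMap A B a • (show B ⊗[A] X from x)) = _
            rw [algebraMap_smul, map_smul]
            rfl } : _ →ₗ[A] _) (TensorProduct.comm A B X).bijective)) ?_⟩
  intro X Y g
  refine ModuleCat.hom_ext (LinearMap.ext fun (z : B ⊗[A] X) => ?_)
  induction z using TensorProduct.induction_on with
  | zero => exact (map_zero _).trans (map_zero _).symm
  | add a b ha hb => exact (map_add _ a b).trans ((congr($ha + $hb)).trans (map_add _ a b).symm)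
  | tmul b x => rfl

lemma finite_homology_bcCx [IsNoetherianRing A] {B : Type u} [CommRing B] [Algebra A B] [Module.Finite A B]
    (hP : ∀ i, Module.Flat A (P.X i)) (i₀ : ℤ) (hb : ∀ i < i₀, IsZero (P.X i))
    (hfg : ∀ n : ℤ, Module.Finite A (P.homology n)) (n : ℤ) :
    Module.Finite B ((CohIII.bcCx (algebraMap A B) P).homology n) := by
  let R := ModuleCat.restrictScalars (algebraMap A B)
  let K := CohIII.bcCx (algebraMap A B) P
  let θ := (nonempty_extResIso_aux (algebraMap A B) ‹Algebra A B› (Algebra.algebra_ext _ _ fun _ => rfl)).some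
  let e' : (R.mapHomologicalComplex (ComplexShape.down ℤ)).obj K ≅ CohIII.tensorObj P (ModuleCat.of A B) :=
    HomologicalComplex.Hom.isoOfComponents (fun i => θ.app (P.X i))
      (fun i j _ => (θ.hom.naturality (P.d i j)).symm)
  let e₀ : R.obj (K.homology n) ≅ ((R.mapHomologicalComplex (ComplexShape.down ℤ)).obj K).homology n :=
    ((K.sc n).mapHomologyIso R).symm
  let e : R.obj (K.homology n) ≅ CohIII.T P n (ModuleCat.of A B) :=
    e₀ ≪≫ (HomologicalComplex.homologyFunctor _ _ n).mapIso e'
  haveI := isNoetherian_T P hP i₀ hb hfg n (ModuleCat.of A B) inferInstance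
  haveI : Module.Finite A (R.obj (K.homology n)) := Module.Finite.equiv e.toLinearEquiv.symm
  letI : Module A (K.homology n) := Module.compHom _ (algebraMap A B)
  haveI : IsScalarTower A B (K.homology n) := .of_algebraMap_smul fun _ _ => rfl
  haveI : Module.Finite A (K.homology n) := ‹Module.Finite A (R.obj (K.homology n))›
  exact Module.Finite.of_restrictScalars_finite A B (K.homology n)

/-- Over a domain the ranks are constant on a neighbourhood of the generic point. -/
lemma exists_basicOpen_dRank_eq [IsDomain A] (hP : ∀ i, Module.Flat A (P.X i)) (i₀ : ℤ)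
    (hb : ∀ i < i₀, IsZero (P.X i)) (hfp : ∀ n : ℤ, Module.FinitePresentation A (P.homology n)) (N : ℤ) :
    ∃ f : A, f ≠ 0 ∧ ∀ x : PrimeSpectrum A, x ∈ PrimeSpectrum.basicOpen f → ∀ q ≤ N,
      CohIII.dRank P q x = CohIII.dRank P q ⟨⊥, Ideal.isPrime_bot⟩ := by
  obtain ⟨f, hf, h⟩ := exists_away_flat P i₀ hb hfp N
  refine ⟨f, hf, fun x hx q hq => ?_⟩
  let B := Localization.Away f
  haveI : Module.Flat A B := IsLocalization.flat _ (Submonoid.powers f)
  haveI : IsDomain B := IsLocalization.isDomain_localization (powers_le_nonZeroDivisors_of_noZeroDivisors hf)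
  have hex := exact_upTo_bcCx P hP i₀ hb N h q hq
  let P' := CohIII.bcCx (algebraMap A B) P
  haveI := hfp q
  have hfp' : Module.FinitePresentation B (CohIII.T P' q (ModuleCat.of B B)) :=
    Module.FinitePresentation.of_equiv ((nonempty_homology_flatBC P (B := B) q).some.trans
      (tUnitIso (P := P') q).toLinearEquiv.symm)
  have hlc := Groth.Agent.S4485.result P' (flat_bcCx_X P hP) q hex hfp'
  have hrange := PrimeSpectrum.localization_away_comap_range B f
  have hbot : (⟨⊥, Ideal.isPrime_bot⟩ : PrimeSpectrum A) ∈ PrimeSpectrum.basicOpen f := hf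
  obtain ⟨y, rfl⟩ := hrange.ge hx
  obtain ⟨z, hz⟩ := hrange.ge hbot
  rw [← hz, ← Groth.Agent.S2440.result P hP q y, ← Groth.Agent.S2440.result P hP q z]
  exact hlc.apply_eq_of_preconnectedSpace y z

end Groth.Agent.FlatCxLib
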