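import Groth.Agent.FlatCxLib.LocalizeT

/-! Exactness of a linear functor is local at maximal ideals. -/

set_option backward.isDefEq.respectTransparency false
set_option backward.isDefEq.respectTransparency.types false
set_option linter.style.haveILetI false
set_option linter.unusedSectionVars false

universe u

open CategoryTheory Limits

namespace Groth.Agent.FlatCxLib

variable {A : Type u} [CommRing A] (S : Submonoid A)

/-- The localisation over the localised ring. -/
noncomputable abbrev locObj (M : ModuleCat.{u} A) : ModuleCat.{u} (Localization S) :=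
  ModuleCat.of _ (LocalizedModule S M)

/-- The localisation map into the restricted localisation. -/
noncomputable def locι (M : ModuleCat.{u} A) :
    M ⟶ (ModuleCat.restrictScalars (algebraMap A (Localization S))).obj (locObj S M) :=
  ModuleCat.ofHom (Y := (ModuleCat.restrictScalars (algebraMap A (Localization S))).obj (locObj S M))
    { toFun := fun m => LocalizedModule.mkLinearMap S M m
      map_add' := fun x y => map_add (LocalizedModule.mkLinearMap S M) x y
      map_smul' := fun a x => (map_smul (LocalizedModule.mkLinearMap S M) a x).trans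
        (algebraMap_smul (Localization S) a (LocalizedModule.mkLinearMap S M x)).symm }

/-- A short complex after localisation. -/
noncomputable def locSC (C : ShortComplex (ModuleCat.{u} A)) : ShortComplex (ModuleCat.{u} (Localization S)) :=
  ShortComplex.mk (X₁ := locObj S C.X₁) (X₂ := locObj S C.X₂) (X₃ := locObj S C.X₃)
    (ModuleCat.ofHom (LocalizedModule.map S C.f.hom)) (ModuleCat.ofHom (LocalizedModule.map S C.g.hom)) (by
      ext x
      induction x using LocalizedModule.induction_on with
      | h m s =>
        show LocalizedModule.map S C.g.hom (LocalizedModule.map S C.f.hom (LocalizedModule.mk m s)) = 0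
        rw [LocalizedModule.map_mk, LocalizedModule.map_mk,
          show C.g.hom (C.f.hom m) = 0 from LinearMap.congr_fun (ModuleCat.hom_ext_iff.1 C.zero) m,
          LocalizedModule.zero_mk])

theorem shortExact_locSC {C : ShortComplex (ModuleCat.{u} A)} (hC : C.ShortExact) : (locSC S C).ShortExact where
  exact := (ShortComplex.ShortExact.moduleCat_exact_iff_function_exact _).2
    (LocalizedModule.map_exact S _ _ ((ShortComplex.ShortExact.moduleCat_exact_iff_function_exact _).1 hC.exact))
  mono_f := (ModuleCat.mono_iff_injective _).2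
    (LocalizedModule.map_injective S _ ((ModuleCat.mono_iff_injective _).1 hC.mono_f))
  epi_g := (ModuleCat.epi_iff_surjective _).2
    (LocalizedModule.map_surjective S _ ((ModuleCat.epi_iff_surjective _).1 hC.epi_g))

theorem locι_natural {M N : ModuleCat.{u} A} (f : M ⟶ N) :
    f ≫ locι S N = locι S M ≫ (ModuleCat.restrictScalars (algebraMap A (Localization S))).map
      (ModuleCat.ofHom (LocalizedModule.map S f.hom) : locObj S M ⟶ locObj S N) := by
  ext m
  exact (LocalizedModule.map_mk _ f.hom m 1).symm

variable (T : ModuleCat.{u} A ⥤ ModuleCat.{u} A) [T.Additive] [T.Linear A]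
  (hT : ∀ (J : Type u) [SmallCategory J] [IsFiltered J], PreservesColimitsOfShape J T)

include hT in
theorem isLocalizedModule_locι (M : ModuleCat.{u} A) : IsLocalizedModule S (T.map (locι S M)).hom := by
  let R := (ModuleCat.restrictScalars (algebraMap A (Localization S))).obj (locObj S M)
  let l : ModuleCat.of A (LocalizedModule S M) →ₗ[A] R :=
    { toFun := fun x => x
      map_add' := fun _ _ => rfl
      map_smul' := fun a x => (algebraMap_smul (Localization S) a (show LocalizedModule S M from x)).symm }
  let e : ModuleCat.of A (LocalizedModule S M) ≅ R :=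
    (LinearEquiv.ofBijective l Function.bijective_id).toModuleIso
  have he : locι S M = (ModuleCat.ofHom (LocalizedModule.mkLinearMap S M) :
      M ⟶ ModuleCat.of A (LocalizedModule S M)) ≫ e.hom := rfl
  have := isLocalizedModule_map S M T hT
  rw [he, T.map_comp, ModuleCat.hom_comp]
  exact IsLocalizedModule.of_linearEquiv S _ (T.mapIso e).toLinearEquiv

/-- Membership in a submodule is local at maximal ideals. -/
theorem mem_of_local {X : Type u} [AddCommGroup X] [Module A X] (N : Submodule A X) (x : X)
    (h : ∀ (m : Ideal A), m.IsMaximal → ∃ s : A, s ∉ m ∧ s • x ∈ N) : x ∈ N := by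
  by_contra hx
  obtain ⟨m, hm, hle⟩ := Ideal.exists_le_maximal (N.comap (LinearMap.toSpanSingleton A X x))
    fun htop => hx (by
      have h1 : (1 : A) ∈ N.comap (LinearMap.toSpanSingleton A X x) := htop ▸ Submodule.mem_top
      simpa using h1)
  obtain ⟨s, hs, hsx⟩ := h m hm
  exact hs (hle (by simpa using hsx))

theorem locι_map {M N : ModuleCat.{u} A} (f : M ⟶ N) (x : T.obj M) :
    (T.map (locι S N)).hom ((T.map f).hom x) =
      ((ModuleCat.restrictScalars (algebraMap A (Localization S)) ⋙ T).map
        (ModuleCat.ofHom (LocalizedModule.map S f.hom) : locObj S M ⟶ locObj S N)).hom ((T.map (locι S M)).hom x) := by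
  rw [← LinearMap.comp_apply, ← ModuleCat.hom_comp, ← T.map_comp, locι_natural, T.map_comp]
  rfl

include hT in
theorem preservesFiniteLimits_of_local (h : ∀ (m : Ideal A) [m.IsMaximal],
    PreservesFiniteLimits (ModuleCat.restrictScalars (algebraMap A (Localization.AtPrime m)) ⋙ T)) :
    PreservesFiniteLimits T := by
  refine ((Functor.preservesFiniteLimits_tfae T).out 0 3 rfl rfl).1 fun C hC => ?_
  have key : ∀ (m : Ideal A) [m.IsMaximal],
      ((locSC m.primeCompl C).map (ModuleCat.restrictScalars (algebraMap A (Localization.AtPrime m)) ⋙ T)).Exact ∧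
        Mono ((ModuleCat.restrictScalars (algebraMap A (Localization.AtPrime m)) ⋙ T).map (locSC m.primeCompl C).f) :=
    fun m _ => ((Functor.preservesFiniteLimits_tfae _).out 3 0 rfl rfl).1 (h m) _ (shortExact_locSC _ hC)
  refine ⟨(ShortComplex.ShortExact.moduleCat_exact_iff_function_exact _).2 ?_,
    (ModuleCat.mono_iff_injective _).2 ?_⟩
  · intro (x : T.obj C.X₂)
    constructor
    · intro hx
      refine mem_of_local (LinearMap.range (T.map C.f).hom) x fun m hm => ?_
      have h1 := locι_map m.primeCompl T C.g x
      erw [show (T.map C.g).hom x = 0 from hx, map_zero] at h1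
      obtain ⟨w, hw⟩ := (((ShortComplex.ShortExact.moduleCat_exact_iff_function_exact _).1 (key m).1) _).1 h1.symm
      haveI := isLocalizedModule_locι m.primeCompl T hT C.X₁
      haveI := isLocalizedModule_locι m.primeCompl T hT C.X₂
      obtain ⟨⟨a, s⟩, ha⟩ := IsLocalizedModule.surj m.primeCompl (T.map (locι m.primeCompl C.X₁)).hom w
      obtain ⟨t, ht⟩ := IsLocalizedModule.exists_of_eq (S := m.primeCompl) (f := (T.map (locι m.primeCompl C.X₂)).hom)
        (x₁ := s • x) (x₂ := (T.map C.f).hom a) (by
          rw [locι_map, ← ha, LinearMap.map_smul_of_tower, LinearMap.map_smul_of_tower]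
          exact congrArg (s • ·) hw.symm)
      refine ⟨(t : A) * s, fun h => (hm.isPrime.mem_or_mem h).elim t.2 s.2, (t : A) • a, ?_⟩
      rw [map_smul, mul_smul]
      exact ht.symm
    · rintro ⟨y, rfl⟩
      show (T.map C.g).hom ((T.map C.f).hom y) = 0
      rw [← LinearMap.comp_apply, ← ModuleCat.hom_comp, ← T.map_comp, C.zero, T.map_zero]
      rfl
  · rw [injective_iff_map_eq_zero]
    intro x hx
    refine (Submodule.mem_bot A).1 (mem_of_local ⊥ x fun m hm => ?_)
    have h1 := locι_map m.primeCompl T C.f x
    erw [hx, map_zero] at h1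
    have h2 := ((ModuleCat.mono_iff_injective _).1 (key m).2) (h1.symm.trans (map_zero _).symm)
    haveI := isLocalizedModule_locι m.primeCompl T hT C.X₁
    obtain ⟨t, ht⟩ := IsLocalizedModule.exists_of_eq (S := m.primeCompl) (f := (T.map (locι m.primeCompl C.X₁)).hom)
      (x₁ := x) (x₂ := 0) (h2.trans (map_zero _).symm)
    exact ⟨t, t.2, (Submodule.mem_bot A).2 (ht.trans (smul_zero _))⟩

include hT in
theorem preservesFiniteColimits_of_local (h : ∀ (m : Ideal A) [m.IsMaximal],
    PreservesFiniteColimits (ModuleCat.restrictScalars (algebraMap A (Localization.AtPrime m)) ⋙ T)) :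
    PreservesFiniteColimits T := by
  refine ((Functor.preservesFiniteColimits_tfae T).out 0 3 rfl rfl).1 fun C hC => ?_
  have key : ∀ (m : Ideal A) [m.IsMaximal],
      ((locSC m.primeCompl C).map (ModuleCat.restrictScalars (algebraMap A (Localization.AtPrime m)) ⋙ T)).Exact ∧
        Epi ((ModuleCat.restrictScalars (algebraMap A (Localization.AtPrime m)) ⋙ T).map (locSC m.primeCompl C).g) :=
    fun m _ => ((Functor.preservesFiniteColimits_tfae _).out 3 0 rfl rfl).1 (h m) _ (shortExact_locSC _ hC)
  refine ⟨(ShortComplex.ShortExact.moduleCat_exact_iff_function_exact _).2 ?_,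
    (ModuleCat.epi_iff_surjective _).2 ?_⟩
  · intro (x : T.obj C.X₂)
    constructor
    · intro hx
      refine mem_of_local (LinearMap.range (T.map C.f).hom) x fun m hm => ?_
      have h1 := locι_map m.primeCompl T C.g x
      erw [show (T.map C.g).hom x = 0 from hx, map_zero] at h1
      obtain ⟨w, hw⟩ := (((ShortComplex.ShortExact.moduleCat_exact_iff_function_exact _).1 (key m).1) _).1 h1.symm
      haveI := isLocalizedModule_locι m.primeCompl T hT C.X₁
      haveI := isLocalizedModule_locι m.primeCompl T hT C.X₂
      obtain ⟨⟨a, s⟩, ha⟩ := IsLocalizedModule.surj m.primeCompl (T.map (locι m.primeCompl C.X₁)).hom w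
      obtain ⟨t, ht⟩ := IsLocalizedModule.exists_of_eq (S := m.primeCompl) (f := (T.map (locι m.primeCompl C.X₂)).hom)
        (x₁ := s • x) (x₂ := (T.map C.f).hom a) (by
          rw [locι_map, ← ha, LinearMap.map_smul_of_tower, LinearMap.map_smul_of_tower]
          exact congrArg (s • ·) hw.symm)
      refine ⟨(t : A) * s, fun h => (hm.isPrime.mem_or_mem h).elim t.2 s.2, (t : A) • a, ?_⟩
      rw [map_smul, mul_smul]
      exact ht.symm
    · rintro ⟨y, rfl⟩
      show (T.map C.g).hom ((T.map C.f).hom y) = 0
      rw [← LinearMap.comp_apply, ← ModuleCat.hom_comp, ← T.map_comp, C.zero, T.map_zero]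
      rfl
  · intro (x : T.obj C.X₃)
    refine mem_of_local (LinearMap.range (T.map C.g).hom) x fun m hm => ?_
    haveI := isLocalizedModule_locι m.primeCompl T hT C.X₂
    haveI := isLocalizedModule_locι m.primeCompl T hT C.X₃
    obtain ⟨w, hw⟩ := (ModuleCat.epi_iff_surjective _).1 (key m).2 ((T.map (locι m.primeCompl C.X₃)).hom x)
    obtain ⟨⟨a, s⟩, ha⟩ := IsLocalizedModule.surj m.primeCompl (T.map (locι m.primeCompl C.X₂)).hom w
    obtain ⟨t, ht⟩ := IsLocalizedModule.exists_of_eq (S := m.primeCompl) (f := (T.map (locι m.primeCompl C.X₃)).hom)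
      (x₁ := s • x) (x₂ := (T.map C.g).hom a) (by
        rw [locι_map, ← ha, LinearMap.map_smul_of_tower, LinearMap.map_smul_of_tower]
        exact congrArg (s • ·) hw.symm)
    refine ⟨(t : A) * s, fun h => (hm.isPrime.mem_or_mem h).elim t.2 s.2, (t : A) • a, ?_⟩
    rw [map_smul, mul_smul]
    exact ht.symm

end Groth.Agent.FlatCxLib
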