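import Mathlib

/-! Linear functors preserving filtered colimits commute with localisation. -/

set_option backward.isDefEq.respectTransparency false
set_option backward.isDefEq.respectTransparency.types false
set_option linter.style.haveILetI false
set_option linter.unusedSectionVars false

universe u

open CategoryTheory Limits

namespace Groth.Agent.FlatCxLib

variable {A : Type u} [CommRing A] (S : Submonoid A)

/-- The category of denominators. -/
def Den : Type u := S

/-- The denominator. -/
def Den.val {S : Submonoid A} (s : Den S) : S := s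

instance : Category.{u} (Den S) where
  Hom s t := {c : S // s.val * c = t.val}
  id s := ⟨1, mul_one _⟩
  comp f g := ⟨f.1 * g.1, by rw [← mul_assoc, f.2, g.2]⟩
  id_comp f := Subtype.ext (one_mul _)
  comp_id f := Subtype.ext (mul_one _)
  assoc f g h := Subtype.ext (mul_assoc _ _ _)

instance : IsFiltered (Den S) :=
  { cocone_objs := fun s t => ⟨s.val * t.val, ⟨t.val, rfl⟩,
      ⟨s.val, mul_comm _ _⟩, trivial⟩
    cocone_maps := fun {s t} f g => ⟨t.val * s.val, ⟨s.val, rfl⟩, Subtype.ext (by
      show f.1 * s.val = g.1 * s.val
      rw [mul_comm, f.2, mul_comm g.1, g.2])⟩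
    nonempty := ⟨(1 : S)⟩ }

variable (M : ModuleCat.{u} A)

/-- The diagram of multiplications. -/
noncomputable def denFunctor : Den S ⥤ ModuleCat.{u} A where
  obj _ := M
  map f := (f.1 : A) • 𝟙 M
  map_id _ := by
    show ((1 : S) : A) • 𝟙 M = 𝟙 M
    rw [Submonoid.coe_one, one_smul]
  map_comp f g := by
    show ((f.1 * g.1 : S) : A) • 𝟙 M = _
    ext x
    simp [smul_smul, mul_comm]

/-- The cocone into the localisation. -/
noncomputable def denCocone : Cocone (denFunctor S M) where
  pt := ModuleCat.of A (LocalizedModule S M)
  ι :=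
    { app := fun s => ModuleCat.ofHom
        { toFun := fun m => LocalizedModule.mk m s.val
          map_add' := fun x y => ((LocalizedModule.mk_add_mk).trans (LocalizedModule.mk_eq.2 ⟨1, by
              simp only [one_smul, ← smul_add, smul_smul]⟩)).symm
          map_smul' := fun a x => by
            rw [RingHom.id_apply]
            exact (LocalizedModule.smul'_mk a x _).symm }
      naturality := fun {s t} f => ModuleCat.hom_ext (LinearMap.ext fun m => by
        show LocalizedModule.mk ((f.1 : A) • m) t.val = LocalizedModule.mk m s.val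
        refine LocalizedModule.mk_eq.2 ⟨1, ?_⟩
        rw [one_smul, one_smul]
        show s.val • ((f.1 : A) • m) = t.val • m
        rw [Submonoid.smul_def, Submonoid.smul_def, smul_smul, ← Submonoid.coe_mul, f.2]) }

/-- The localisation is the filtered colimit of multiplications. -/
noncomputable def isColimitDenCocone : IsColimit (denCocone S M) := by
  haveI : ReflectsColimitsOfShape (Den S) (forget (ModuleCat.{u} A)) :=
    reflectsColimitsOfShape_of_reflectsIsomorphisms
  refine isColimitOfReflects (forget (ModuleCat.{u} A)) (Types.FilteredColimit.isColimitOf _ _ ?_ ?_)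
  · intro (x : LocalizedModule S M)
    induction x using LocalizedModule.induction_on with
    | h m s => exact ⟨(s : Den S), m, rfl⟩
  · intro s t x y h
    let x' : M := x
    let y' : M := y
    have h' : LocalizedModule.mk x' s.val = LocalizedModule.mk y' t.val := h
    obtain ⟨c, hc⟩ := LocalizedModule.mk_eq.1 h'
    refine ⟨c * t.val * s.val, ⟨c * t.val, mul_comm _ _⟩,
      ⟨c * s.val, by
        show t.val * (c * s.val) = c * t.val * s.val
        rw [← mul_assoc, mul_comm t.val c]⟩, ?_⟩
    show ((c * t.val : S) : A) • (show M from x) = ((c * s.val : S) : A) • (show M from y)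
    rw [Submonoid.coe_mul, Submonoid.coe_mul, mul_smul, mul_smul]
    exact hc

variable (T : ModuleCat.{u} A ⥤ ModuleCat.{u} A) [T.Additive] [T.Linear A]

theorem isLocalizedModule_map
    (hT : ∀ (J : Type u) [SmallCategory J] [IsFiltered J], PreservesColimitsOfShape J T) :
    IsLocalizedModule S (T.map (ModuleCat.ofHom (LocalizedModule.mkLinearMap S M) :
      M ⟶ ModuleCat.of A (LocalizedModule S M))).hom := by
  haveI := hT (Den S)
  have hc := isColimitOfPreserves T (isColimitDenCocone S M)
  let N : ModuleCat.{u} A := ModuleCat.of A (LocalizedModule S M)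
  let one : Den S := (1 : S)
  have hone : one.val = 1 := rfl
  have h1 : ∀ z : T.obj M, ((T.mapCocone (denCocone S M)).ι.app one).hom z =
      (T.map (ModuleCat.ofHom (LocalizedModule.mkLinearMap S M) : M ⟶ N)).hom z := fun z => rfl
  have hsm : ∀ (a : A) (X : ModuleCat.{u} A) (x : T.obj X), (T.map (a • 𝟙 X)).hom x = a • x := fun a X x => by
    rw [T.map_smul, T.map_id]
    rfl
  refine ⟨fun s => ?_, fun y => ?_, fun {x y} h => ?_⟩
  · have hi : IsIso ((s : A) • 𝟙 N) := by
      rw [ConcreteCategory.isIso_iff_bijective]
      exact (Module.End.isUnit_iff _).1 (IsLocalizedModule.map_units (LocalizedModule.mkLinearMap S M) s)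
    have := ConcreteCategory.bijective_of_isIso (T.map ((s : A) • 𝟙 N))
    rw [Module.End.isUnit_iff]
    convert this using 1
    exact funext fun x => (hsm _ N x).symm
  · obtain ⟨s, z, hz⟩ := Concrete.isColimit_exists_rep _ hc (show (T.mapCocone (denCocone S M)).pt from y)
    rw [← show ((T.mapCocone (denCocone S M)).ι.app s).hom z = y from hz]
    refine ⟨⟨z, s.val⟩, ?_⟩
    show (s.val : A) • (T.map ((denCocone S M).ι.app s)).hom z = _
    rw [← h1, ← map_smul, ← hsm _ M z]
    let f : one ⟶ s := ⟨s.val, one_mul _⟩
    have e : (denFunctor S M).map f ≫ (denCocone S M).ι.app s = (denCocone S M).ι.app one :=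
      (denCocone S M).w f
    show _ = (T.map ((denCocone S M).ι.app one)).hom z
    rw [← e, T.map_comp]
    rfl
  · obtain ⟨k, f, g, hk⟩ := Concrete.isColimit_exists_of_rep_eq _ hc
      (i := one) (j := one) x y ((h1 x).trans (h.trans (h1 y).symm))
    refine ⟨f.1, ?_⟩
    have hfg : f.1 = g.1 := by
      have := f.2.trans g.2.symm
      exact (one_mul f.1).symm.trans (this.trans (one_mul g.1))
    have hk' : (T.map ((f.1 : A) • 𝟙 M)).hom x = (T.map ((g.1 : A) • 𝟙 M)).hom y := hk
    rw [hsm, hsm, ← hfg] at hk'
    exact hk'

end Groth.Agent.FlatCxLib
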